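import Mathlib

/-!
# A semilinear action is free over the base field
-/

set_option autoImplicit false

namespace Cfsg.Agent.SolvStruct.FrobeniusFree

/-- A normal basis of `L` over the fixed field of a faithfully acting finite group. -/
theorem exists_normalBasis (G L : Type*) [Group G] [Finite G] [Field L] [MulSemiringAction G L]
    [FaithfulSMul G L] : ∃ (θ : L) (e : Module.Basis G (FixedPoints.subfield G L) L), ∀ g, e g = g • θ := by
  haveI : IsGalois (FixedPoints.subfield G L) L := IsGalois.of_fixed_field L G
  refine ⟨IsGalois.normalBasis (FixedPoints.subfield G L) L 1,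
    (IsGalois.normalBasis (FixedPoints.subfield G L) L).reindex
      (FixedPoints.toAlgAutMulEquiv G L).symm.toEquiv, fun g => ?_⟩
  rw [Module.Basis.reindex_apply, IsGalois.normalBasis_apply]
  rfl

/-- The semilinear step. -/
theorem semilinear {k : Type*} [Field k] {L : Type*} [Field L] [Algebra k L] {G : Type*} [Group G]
    [Fintype G] [MulSemiringAction G L] [FaithfulSMul G L] {U : Type*} [AddCommGroup U] [Module k U]
    [Module L U] [IsScalarTower k L U] [Module.Finite L U] (r : G →* Module.End k U)
    (hr : ∀ (g : G) (l : L) (u : U), r g (l • u) = (g • l) • r g u) :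
    ∃ W : Submodule k U, (∀ c : G → U, (∀ g, c g ∈ W) → ∑ g, r g (c g) = 0 → c = 0) ∧
      ∀ u, ∃ c : G → U, (∀ g, c g ∈ W) ∧ ∑ g, r g (c g) = u := by
  classical
  set U0 : Set U := {u | ∀ g, r g u = u} with hU0
  have hspan : Submodule.span L U0 = ⊤ := by
    by_contra hne
    obtain ⟨u, hu⟩ : ∃ u, u ∉ Submodule.span L U0 := by
      by_contra hall
      push Not at hall
      exact hne (eq_top_iff.2 fun u _ => hall u)
    obtain ⟨φ, hφu, hφ⟩ := Submodule.exists_dual_map_eq_bot_of_notMem hu inferInstance
    have hT : ∀ l : L, ∑ g, r g (l • u) ∈ U0 := by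
      intro l h
      rw [map_sum]
      refine Fintype.sum_equiv (Equiv.mulLeft h) _ _ fun g => ?_
      rw [Equiv.coe_mulLeft, map_mul, Module.End.mul_apply]
    have h0 : ∀ l : L, ∑ g, φ (r g u) * g • l = 0 := by
      intro l
      have h1 : φ (∑ g, r g (l • u)) ∈ (Submodule.span L U0).map φ :=
        ⟨_, Submodule.subset_span (hT l), rfl⟩
      rw [hφ, Submodule.mem_bot, map_sum] at h1
      rw [← h1]
      exact Finset.sum_congr rfl fun g _ => by rw [hr, map_smul, smul_eq_mul, mul_comm]
    have hli : LinearIndependent L fun g : G => (MulSemiringAction.toRingHom G L g : L → L) := by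
      refine (linearIndependent_monoidHom L L).comp
        (fun g : G => (MulSemiringAction.toRingHom G L g).toMonoidHom) ?_
      intro a b hab
      exact FaithfulSMul.eq_of_smul_eq_smul fun l => DFunLike.congr_fun hab l
    have h2 := Fintype.linearIndependent_iff.1 hli (fun g => φ (r g u))
      (funext fun l => by simpa [Finset.sum_apply] using h0 l) 1
    rw [map_one, Module.End.one_apply] at h2
    exact hφu h2
  obtain ⟨s, hs, hsp, hli⟩ := exists_linearIndependent L U0
  rw [hspan] at hsp
  let b : Module.Basis s L U := Module.Basis.mk hli (by rw [Subtype.range_coe, hsp])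
  haveI : Fintype s := FiniteDimensional.fintypeBasisIndex b
  have hbfix : ∀ (i : s) (g : G), r g (b i) = b i := fun i g => by
    rw [Module.Basis.mk_apply]; exact hs i.2 g
  obtain ⟨θ, e, he⟩ := exists_normalBasis G L
  let W : Submodule k U :=
    { carrier := {u | ∀ i, ∃ a : FixedPoints.subfield G L, b.repr u i = (a : L) * θ}
      zero_mem' := fun i => ⟨0, by simp⟩
      add_mem' := fun {u v} hu hv i => by
        obtain ⟨a, ha⟩ := hu i
        obtain ⟨c, hc⟩ := hv i
        exact ⟨a + c, by simp [ha, hc, add_mul]⟩
      smul_mem' := fun t u hu i => by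
        obtain ⟨a, ha⟩ := hu i
        have hfix : ∀ g : G, g • algebraMap k L t = algebraMap k L t := by
          intro g
          have h1 := hr g (algebraMap k L t) (b i)
          rw [hbfix i g, show algebraMap k L t • b i = t • b i from algebraMap_smul L t (b i),
            map_smul, hbfix i g, show t • b i = algebraMap k L t • b i from (algebraMap_smul L t (b i)).symm] at h1
          have h2 := congrArg (fun z => b.repr z i) h1
          simp only [map_smul, Module.Basis.repr_self, Finsupp.smul_apply, Finsupp.single_eq_same,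
            smul_eq_mul, mul_one] at h2
          exact h2.symm
        refine ⟨⟨algebraMap k L t, hfix⟩ * a, ?_⟩
        rw [show t • u = algebraMap k L t • u from (algebraMap_smul L t u).symm, map_smul,
          Finsupp.smul_apply, ha, smul_eq_mul, MulMemClass.coe_mul, mul_assoc] }
  have hrepr : ∀ (g : G) (u : U) (i : s), b.repr (r g u) i = g • b.repr u i := by
    intro g u i
    have h1 : r g u = ∑ j, (g • b.repr u j) • b j := by
      conv_lhs => rw [← b.sum_repr u]
      rw [map_sum]
      exact Finset.sum_congr rfl fun j _ => by rw [hr, hbfix]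
    rw [h1, b.repr_sum_self]
  have key : ∀ c : G → U, (∀ g, c g ∈ W) → ∀ (i : s) (a : G → FixedPoints.subfield G L),
      (∀ g, b.repr (c g) i = (a g : L) * θ) → b.repr (∑ g, r g (c g)) i = ∑ g, a g • e g := by
    intro c _ i a ha
    rw [map_sum, Finsupp.finsetSum_apply]
    refine Finset.sum_congr rfl fun g _ => ?_
    rw [hrepr, ha, smul_mul', show g • (a g : L) = (a g : L) from (a g).2 g, he, Subfield.smul_def,
      smul_eq_mul]
  refine ⟨W, fun c hc h0 => funext fun h => b.repr.injective (Finsupp.ext fun i => ?_), fun u => ?_⟩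
  · choose a ha using fun g => hc g i
    have h1 := key c hc i a ha
    rw [h0, map_zero, Finsupp.zero_apply] at h1
    have h2 := Fintype.linearIndependent_iff.1 e.linearIndependent a h1.symm h
    simp [ha h, h2]
  · refine ⟨fun g => ∑ i, ((e.repr (b.repr u i) g : L) * θ) • b i, fun g i => ?_,
      b.repr.injective (Finsupp.ext fun i => ?_)⟩
    · exact ⟨e.repr (b.repr u i) g, by rw [b.repr_sum_self]⟩
    · rw [key _ (fun g j => ⟨e.repr (b.repr u j) g, by rw [b.repr_sum_self]⟩) i
        (fun g => e.repr (b.repr u i) g) (fun g => by rw [b.repr_sum_self]), e.sum_repr]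

end Cfsg.Agent.SolvStruct.FrobeniusFree
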