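import Mathlib
import Cfsg.Agent.SolvStruct.FrobeniusFree.Semilinear

/-!
# A module without kernel fixed points is free over a fixed-point-free complement
-/

set_option autoImplicit false

namespace Cfsg.Agent.SolvStruct.FrobeniusFree

open Module

variable {k : Type*} [Field k] {Γ : Type*} [Group Γ] [Finite Γ]

/-- `V` is free over `H`. -/
def Free {V : Type*} [AddCommGroup V] [Module k V] (ρ : Γ →* Module.End k V) (H : Subgroup Γ)
    [Fintype H] : Prop :=
  ∃ W : Submodule k V, (∀ c : H → V, (∀ h, c h ∈ W) → ∑ h : H, ρ h (c h) = 0 → c = 0) ∧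
    ∀ v, ∃ c : H → V, (∀ h, c h ∈ W) ∧ ∑ h : H, ρ h (c h) = v

variable {V : Type*} [AddCommGroup V] [Module k V]

theorem apply_inv (ρ : Γ →* Module.End k V) (g : Γ) (v : V) : ρ g (ρ g⁻¹ v) = v := by
  rw [← Module.End.mul_apply, ← map_mul, mul_inv_cancel, map_one, Module.End.one_apply]

theorem inv_apply' (ρ : Γ →* Module.End k V) (g : Γ) (v : V) : ρ g⁻¹ (ρ g v) = v := by
  rw [← Module.End.mul_apply, ← map_mul, inv_mul_cancel, map_one, Module.End.one_apply]

/-- An extension of free modules is free. -/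
theorem free_extension {ρ : Γ →* Module.End k V} {H : Subgroup Γ} [Fintype H] {S : Submodule k V}
    (ρS : Γ →* Module.End k S) (ρQ : Γ →* Module.End k (V ⧸ S))
    (hS : ∀ (h : H) (s : S), ((ρS h s : S) : V) = ρ h s)
    (hQ : ∀ (h : H) (v : V), ρQ h (S.mkQ v) = S.mkQ (ρ h v))
    (fS : Free ρS H) (fQ : Free ρQ H) : Free ρ H := by
  classical
  obtain ⟨WS, huS, heS⟩ := fS
  obtain ⟨WQ, huQ, heQ⟩ := fQ
  obtain ⟨C, hC⟩ := S.exists_isCompl
  refine ⟨WS.map S.subtype ⊔ (WQ.comap S.mkQ ⊓ C), fun c hc h0 => ?_, fun v => ?_⟩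
  · choose a ha b hb hab using fun h => Submodule.mem_sup.1 (hc h)
    choose a' ha' haa using ha
    have hSa : ∀ h, S.mkQ (a h) = 0 := fun h => by
      rw [← haa h]; exact (Submodule.Quotient.mk_eq_zero S).2 (a' h).2
    have h1 : ∀ h, S.mkQ (b h) = 0 := by
      have := huQ (fun h => S.mkQ (b h)) (fun h => (hb h).1) (by
        have h2 := congrArg S.mkQ h0
        rw [map_sum, map_zero] at h2
        rw [← h2]
        refine Finset.sum_congr rfl fun h _ => ?_
        rw [← hQ, ← hab h, map_add, hSa, zero_add])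
      exact fun h => congrFun this h
    have hb0 : ∀ h, b h = 0 := fun h => by
      have h2 : b h ∈ S ⊓ C := ⟨(Submodule.Quotient.mk_eq_zero S).1 (h1 h), (hb h).2⟩
      rwa [hC.inf_eq_bot, Submodule.mem_bot] at h2
    have ha0 := huS a' ha' (by
      refine Subtype.ext ?_
      rw [Submodule.coe_sum, ZeroMemClass.coe_zero, ← h0]
      refine Finset.sum_congr rfl fun h _ => ?_
      rw [hS, ← hab h, hb0, add_zero, ← haa h]
      rfl)
    refine funext fun h => ?_
    rw [← hab h, hb0, add_zero, ← haa h, congrFun ha0 h]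
    rfl
  · obtain ⟨q, hq, hqv⟩ := heQ (S.mkQ v)
    have hlift : ∀ h, ∃ b ∈ WQ.comap S.mkQ ⊓ C, S.mkQ b = q h := by
      intro h
      obtain ⟨x, hx⟩ := S.mkQ_surjective (q h)
      obtain ⟨s, hs, c, hc, rfl⟩ := Submodule.mem_sup.1 (hC.sup_eq_top ▸ Submodule.mem_top (x := x))
      have e : S.mkQ c = q h := by
        rw [map_add, show S.mkQ s = 0 from (Submodule.Quotient.mk_eq_zero S).2 hs, zero_add] at hx
        exact hx
      exact ⟨c, ⟨Submodule.mem_comap.2 (e ▸ hq h), hc⟩, e⟩
    choose b hb hbq using hlift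
    have hmem : v - ∑ h : H, ρ h (b h) ∈ S := by
      refine (Submodule.Quotient.mk_eq_zero S).1 ?_
      show S.mkQ _ = 0
      rw [map_sub, map_sum, sub_eq_zero, ← hqv]
      exact Finset.sum_congr rfl fun h _ => by rw [← hQ, hbq]
    obtain ⟨a, ha, hav⟩ := heS ⟨_, hmem⟩
    refine ⟨fun h => (a h : V) + b h, fun h => add_mem (Submodule.mem_sup_left ⟨a h, ha h, rfl⟩)
      (Submodule.mem_sup_right (hb h)), ?_⟩
    have h2 := congrArg Subtype.val hav
    rw [Submodule.coe_sum] at h2
    simp only [hS] at h2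
    rw [← sub_add_cancel v (∑ h : H, ρ h (b h)), ← h2, ← Finset.sum_add_distrib]
    exact Finset.sum_congr rfl fun h _ => map_add _ _ _

set_option maxHeartbeats 2000000 in
set_option synthInstance.maxHeartbeats 400000 in
/-- The irreducible case. -/
theorem free_irreducible [FiniteDimensional k V] [Nontrivial V] (ρ : Γ →* Module.End k V)
    (N H : Subgroup Γ) [Fintype H] [Group.IsNilpotent N] (hHN : H ≤ Subgroup.normalizer (N : Set Γ))
    (hfpf : ∀ h ∈ H, h ≠ 1 → ∀ f ∈ N, h * f = f * h → f = 1)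
    (hC : ∀ v, (∀ f ∈ N, ρ f v = v) → v = 0)
    (hirr : ∀ S : Submodule k V, (∀ f ∈ N, ∀ v ∈ S, ρ f v ∈ S) → (∀ h ∈ H, ∀ v ∈ S, ρ h v ∈ S) →
      S = ⊥ ∨ S = ⊤) : Free ρ H := by
  classical
  have hnorm : ∀ h ∈ H, ∀ f ∈ N, h * f * h⁻¹ ∈ N := fun h hh f hf =>
    (Subgroup.mem_normalizer_iff.1 (hHN hh) f).1 hf
  -- elements of `N` central in the image
  let Z : Set Γ := {f | f ∈ N ∧ ∀ g ∈ N, ρ f * ρ g = ρ g * ρ f}
  have hZconj : ∀ h ∈ H, ∀ f ∈ Z, h * f * h⁻¹ ∈ Z := by
    intro h hh f hf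
    refine ⟨hnorm h hh f hf.1, fun g hg => ?_⟩
    have hg' : h⁻¹ * g * h ∈ N := by simpa using hnorm h⁻¹ (inv_mem hh) g hg
    have h1 := congrArg (fun x => ρ h * x * ρ h⁻¹) (hf.2 _ hg')
    simp only [← map_mul] at h1 ⊢
    convert h1 using 2 <;> group
  -- `Z` acts nontrivially
  have hZ1 : ∃ f ∈ Z, ρ f ≠ 1 := by
    by_contra hall
    push Not at hall
    set φ := ρ.toHomUnits.comp N.subtype with hφ
    haveI : Group.IsNilpotent φ.range := Group.nilpotent_of_surjective φ.rangeRestrict φ.rangeRestrict_surjective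
    have hcen : Subgroup.center φ.range = ⊥ := by
      rw [eq_bot_iff]
      rintro ⟨_, n, rfl⟩ hn
      refine Subgroup.mem_bot.2 (Subtype.ext (Units.ext ?_))
      show ρ (n : Γ) = 1
      refine hall _ ⟨n.2, fun g hg => ?_⟩
      exact (congrArg (fun z : φ.range => ((z : (Module.End k V)ˣ) : Module.End k V))
        (Subgroup.mem_center_iff.1 hn ⟨_, ⟨g, hg⟩, rfl⟩)).symm
    have hsub : Subsingleton φ.range := by
      by_contra hns
      rw [not_subsingleton_iff_nontrivial] at hns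
      exact (Group.IsNilpotent.center_ne_bot φ.range) hcen
    obtain ⟨v, hv⟩ := exists_ne (0 : V)
    refine hv (hC v fun f hf => ?_)
    have h1 : (⟨_, ⟨f, hf⟩, rfl⟩ : φ.range) = 1 := Subsingleton.elim _ _
    have h2 := congrArg (fun z : φ.range => ((z : (Module.End k V)ˣ) : Module.End k V)) h1
    exact (show ρ f = 1 from h2) ▸ rfl
  -- and fixes nothing
  have hCZ : ∀ v, (∀ f ∈ Z, ρ f v = v) → v = 0 := by
    intro v hv
    let S : Submodule k V :=
      { carrier := {v | ∀ f ∈ Z, ρ f v = v}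
        zero_mem' := fun f _ => map_zero _
        add_mem' := fun {a b} ha hb f hf => by rw [map_add, ha f hf, hb f hf]
        smul_mem' := fun t a ha f hf => by rw [map_smul, ha f hf] }
    rcases hirr S (fun g hg u hu f hf => by
        rw [← Module.End.mul_apply, hf.2 g hg, Module.End.mul_apply, hu f hf])
      (fun h hh u hu f hf => by
        have h1 := hu _ (hZconj h⁻¹ (inv_mem hh) f hf)
        rw [inv_inv, map_mul, map_mul, Module.End.mul_apply, Module.End.mul_apply] at h1
        have h2 := congrArg (ρ h) h1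
        rwa [apply_inv] at h2) with hS | hS
    · have : v ∈ S := hv
      rwa [hS, Submodule.mem_bot] at this
    · obtain ⟨f, hf, hf1⟩ := hZ1
      refine absurd (LinearMap.ext fun u => ?_) hf1
      exact (hS ▸ Submodule.mem_top : u ∈ S) f hf
  -- the algebra generated by `Z`
  set B := Algebra.adjoin k (ρ '' Z) with hB
  letI : CommRing B := Algebra.adjoinCommRingOfComm k (by
    rintro _ ⟨a, ha, rfl⟩ _ ⟨b, hb, rfl⟩; exact ha.2 b hb.1)
  have hZB : ∀ f ∈ Z, ρ f ∈ B := fun f hf => Algebra.subset_adjoin ⟨f, hf, rfl⟩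
  have hcommN : ∀ (b : B) (g : Γ), g ∈ N → (b : Module.End k V) * ρ g = ρ g * b := by
    rintro ⟨b, hb⟩ g hg
    have hle : B ≤ Subalgebra.centralizer k {ρ g} := by
      rw [hB, Algebra.adjoin_le_iff]
      rintro _ ⟨f, hf, rfl⟩ _ rfl
      exact (hf.2 g hg).symm
    exact ((Subalgebra.mem_centralizer_iff k).1 (hle hb) _ rfl).symm
  -- conjugation on `B`
  have hconj : ∀ h ∈ H, ∀ b ∈ B, ρ h * b * ρ h⁻¹ ∈ B := by
    intro h hh b hb
    induction hb using Algebra.adjoin_induction with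
    | mem x hx =>
      obtain ⟨f, hf, rfl⟩ := hx
      rw [← map_mul, ← map_mul]
      exact hZB _ (hZconj h hh f hf)
    | algebraMap t =>
      rw [← Algebra.commutes, mul_assoc, ← map_mul, mul_inv_cancel, map_one, mul_one]
      exact Subalgebra.algebraMap_mem B t
    | add x y _ _ hx hy => rw [mul_add, add_mul]; exact add_mem hx hy
    | mul x y _ _ hx hy =>
      have : ρ h * (x * y) * ρ h⁻¹ = (ρ h * x * ρ h⁻¹) * (ρ h * y * ρ h⁻¹) := by
        simp only [mul_assoc]
        congr 2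
        rw [← mul_assoc (ρ h⁻¹) (ρ h), ← map_mul, inv_mul_cancel, map_one, one_mul]
      rw [this]; exact mul_mem hx hy
  let σ : H → (B →+* B) := fun h =>
    { toFun := fun b => ⟨ρ h * b * ρ (h : Γ)⁻¹, hconj h h.2 b b.2⟩
      map_one' := Subtype.ext (by simp [← map_mul])
      map_mul' := fun x y => Subtype.ext (by
        show ρ h * ((x : Module.End k V) * y) * ρ (h : Γ)⁻¹ = ρ h * x * ρ (h : Γ)⁻¹ * (ρ h * y * ρ (h : Γ)⁻¹)
        simp only [mul_assoc]
        congr 2
        rw [← mul_assoc (ρ (h : Γ)⁻¹) (ρ h), ← map_mul, inv_mul_cancel, map_one, one_mul])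
      map_zero' := Subtype.ext (by simp)
      map_add' := fun x y => Subtype.ext (by simp [mul_add, add_mul]) }
  have hσmul : ∀ (g h : H) (b : B), σ (g * h) b = σ g (σ h b) := fun g h b => Subtype.ext (by
    show ρ ((g : Γ) * h) * (b : Module.End k V) * ρ ((g : Γ) * h)⁻¹ =
      ρ g * (ρ h * b * ρ (h : Γ)⁻¹) * ρ (g : Γ)⁻¹
    rw [mul_inv_rev, map_mul, map_mul]; simp [mul_assoc])
  have hσone : ∀ b : B, σ 1 b = b := fun b => Subtype.ext (by
    show ρ ((1 : H) : Γ) * (b : Module.End k V) * ρ ((1 : H) : Γ)⁻¹ = b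
    simp)
  have hσcomm : ∀ (h : H) (b : B) (v : V), ρ h ((b : Module.End k V) v) = (σ h b : Module.End k V) (ρ h v) := by
    intro h b v
    show _ = (ρ h * (b : Module.End k V) * ρ (h : Γ)⁻¹) (ρ h v)
    rw [Module.End.mul_apply, Module.End.mul_apply, inv_apply']
  -- a maximal ideal with nonzero annihilated vectors
  let orb : V → Submodule k V := fun v => LinearMap.range
    ((LinearMap.applyₗ v : Module.End k V →ₗ[k] V).comp B.val.toLinearMap)
  have hex : ∃ n, ∃ v : V, v ≠ 0 ∧ finrank k (orb v) = n :=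
    let ⟨v, hv⟩ := exists_ne (0 : V); ⟨_, v, hv, rfl⟩
  obtain ⟨v₀, hv₀, hdim⟩ := Nat.find_spec hex
  let m : Ideal B :=
    { carrier := {b | (b : Module.End k V) v₀ = 0}
      zero_mem' := by simp
      add_mem' := fun {a b} ha hb => by
        simp only [Set.mem_setOf_eq] at ha hb ⊢
        rw [AddMemClass.coe_add, LinearMap.add_apply, ha, hb, add_zero]
      smul_mem' := fun a b hb => by
        simp only [Set.mem_setOf_eq] at hb ⊢
        rw [smul_eq_mul, MulMemClass.coe_mul, Module.End.mul_apply, hb, map_zero] }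
  haveI hm : m.IsMaximal := by
    refine Ideal.isMaximal_iff.2 ⟨fun h1 => hv₀ (by simpa using (show ((1 : B) : Module.End k V) v₀ = 0 from h1)),
      fun J x hmJ hxm hxJ => ?_⟩
    have hle : orb ((x : Module.End k V) v₀) ≤ orb v₀ := by
      rintro _ ⟨b, rfl⟩
      exact ⟨b * x, rfl⟩
    have hge : finrank k (orb v₀) ≤ finrank k (orb ((x : Module.End k V) v₀)) := by
      rw [hdim]
      exact Nat.find_min' hex ⟨_, hxm, rfl⟩
    obtain ⟨c, hc⟩ : v₀ ∈ orb ((x : Module.End k V) v₀) := by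
      rw [Submodule.eq_of_le_of_finrank_le hle hge]
      exact ⟨1, by simp⟩
    have h1 : 1 - c * x ∈ m := by
      show ((1 - c * x : B) : Module.End k V) v₀ = 0
      rw [AddSubgroupClass.coe_sub, LinearMap.sub_apply, sub_eq_zero]
      exact hc.symm
    have h2 := J.add_mem (hmJ h1) (J.mul_mem_left c hxJ)
    rwa [sub_add_cancel] at h2
  -- its translates
  let U : Ideal B → Submodule k V := fun n =>
    { carrier := {v | ∀ b : B, b ∈ n → (b : Module.End k V) v = 0}
      zero_mem' := fun b _ => map_zero _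
      add_mem' := fun {a c} ha hc b hb => by rw [map_add, ha b hb, hc b hb, add_zero]
      smul_mem' := fun t a ha b hb => by rw [map_smul, ha b hb, smul_zero] }
  let mh : H → Ideal B := fun h => m.comap (σ h⁻¹)
  have hmax : ∀ h, (mh h).IsMaximal := fun h => by
    refine Ideal.comap_isMaximal_of_surjective (σ h⁻¹) fun b => ⟨σ h b, ?_⟩
    rw [← hσmul, inv_mul_cancel, hσone]
  have hshift : ∀ g h : H, ∀ u ∈ U (mh h), ρ g u ∈ U (mh (g * h)) := by
    intro g h u hu b hb
    have h1 : σ g⁻¹ b ∈ mh h := by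
      show σ h⁻¹ (σ g⁻¹ b) ∈ m
      rw [← hσmul, ← mul_inv_rev]
      exact hb
    have h2 := hu _ h1
    have h3 := congrArg (ρ g) h2
    rw [hσcomm, ← hσmul, mul_inv_cancel, hσone, map_zero] at h3
    exact h3
  have hm1 : mh 1 = m := by
    ext b
    show σ 1⁻¹ b ∈ m ↔ b ∈ m
    rw [inv_one, hσone]
  have hindep : ∀ (T : Finset (Ideal B)), (∀ n ∈ T, n.IsMaximal) → ∀ u : Ideal B → V, (∀ n ∈ T, u n ∈ U n) →
      ∑ n ∈ T, u n = 0 → ∀ n ∈ T, u n = 0 := by
    intro T hT u hu h0 n hn
    have hb : ∀ n' ∈ T, ∃ b : B, (n' ≠ n → b ∈ n') ∧ 1 - b ∈ n := by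
      intro n' hn'
      by_cases e : n' = n
      · exact ⟨1, fun h => absurd e h, by simp⟩
      · have htop : n' ⊔ n = ⊤ := (hT n' hn').coprime_of_ne (hT n hn) e
        obtain ⟨x, hx, y, hy, hxy⟩ := Submodule.mem_sup.1 ((Ideal.eq_top_iff_one _).1 htop)
        exact ⟨x, fun _ => hx, by rw [← hxy, add_sub_cancel_left]; exact hy⟩
    choose! b hb1 hb2 using hb
    set bb := ∏ n' ∈ T, b n'
    have hbb : 1 - bb ∈ n := by
      rw [← Ideal.Quotient.eq, map_one, map_prod]
      exact (Finset.prod_eq_one fun n' hn' => by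
        rw [← map_one (Ideal.Quotient.mk n)]; exact (Ideal.Quotient.eq.2 (hb2 n' hn')).symm).symm
    have h1 : (bb : Module.End k V) (∑ n' ∈ T, u n') = u n := by
      rw [map_sum, Finset.sum_eq_single n ?_ (fun h => absurd hn h)]
      · have := hu n hn _ hbb
        rw [AddSubgroupClass.coe_sub, LinearMap.sub_apply, sub_eq_zero, OneMemClass.coe_one,
          Module.End.one_apply] at this
        exact this.symm
      · intro n' hn' hne
        refine hu n' hn' bb ?_
        rw [show bb = b n' * ∏ x ∈ T.erase n', b x from (Finset.mul_prod_erase T b hn').symm]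
        exact n'.mul_mem_right _ (hb1 n' hn' hne)
    rw [h0, map_zero] at h1
    exact h1.symm
  -- the stabilizer
  let H₀ : Subgroup H :=
    { carrier := {h | ∀ b, σ h b ∈ m ↔ b ∈ m}
      one_mem' := fun b => by rw [hσone]
      mul_mem' := fun {g h} hg hh b => by rw [hσmul, hg, hh]
      inv_mem' := fun {g} hg b => by
        rw [← hg (σ g⁻¹ b), ← hσmul, mul_inv_cancel, hσone] }
  have hfib : ∀ g h : H, mh g = mh h ↔ g⁻¹ * h ∈ H₀ := by
    intro g h
    constructor
    · intro e b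
      have := SetLike.ext_iff.1 e (σ h b)
      change σ g⁻¹ (σ h b) ∈ m ↔ σ h⁻¹ (σ h b) ∈ m at this
      rwa [← hσmul, ← hσmul, inv_mul_cancel, hσone] at this
    · intro e
      ext b
      have := e (σ h⁻¹ b)
      rw [← hσmul, mul_assoc, mul_inv_cancel, mul_one] at this
      exact this
  have hmfix : ∀ x : H₀, mh (x : H) = m := fun x =>
    ((hfib 1 x).2 (by rw [inv_one, one_mul]; exact x.2)).symm.trans hm1
  -- the field acting on the fixed part
  letI : Field (B ⧸ m) := Ideal.Quotient.field m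
  let act : H₀ → ((B ⧸ m) →+* (B ⧸ m)) := fun x =>
    Ideal.Quotient.lift m ((Ideal.Quotient.mk m).comp (σ x)) fun b hb =>
      Ideal.Quotient.eq_zero_iff_mem.2 ((x.2 b).2 hb)
  letI : MulSemiringAction H₀ (B ⧸ m) :=
    { smul := fun x l => act x l
      one_smul := fun l => by
        obtain ⟨b, rfl⟩ := Ideal.Quotient.mk_surjective l
        exact congrArg (Ideal.Quotient.mk m) (hσone b)
      mul_smul := fun x y l => by
        obtain ⟨b, rfl⟩ := Ideal.Quotient.mk_surjective l
        exact congrArg (Ideal.Quotient.mk m) (hσmul x y b)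
      smul_zero := fun x => map_zero (act x)
      smul_add := fun x => map_add (act x)
      smul_one := fun x => map_one (act x)
      smul_mul := fun x => map_mul (act x) }
  have hact : ∀ (x : H₀) (b : B), x • Ideal.Quotient.mk m b = Ideal.Quotient.mk m (σ x b) := fun x b => rfl
  let toEnd : B →+* Module.End k (U m) :=
    { toFun := fun b => (b : Module.End k V).restrict fun u hu c hc => by
        rw [← Module.End.mul_apply, ← MulMemClass.coe_mul, mul_comm, MulMemClass.coe_mul,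
          Module.End.mul_apply, hu c hc, map_zero]
      map_one' := LinearMap.ext fun u => Subtype.ext rfl
      map_mul' := fun b c => LinearMap.ext fun u => Subtype.ext rfl
      map_zero' := LinearMap.ext fun u => Subtype.ext rfl
      map_add' := fun b c => LinearMap.ext fun u => Subtype.ext rfl }
  let toEndL : (B ⧸ m) →+* Module.End k (U m) := Ideal.Quotient.lift m toEnd fun b hb =>
    LinearMap.ext fun u => Subtype.ext (u.2 b hb)
  letI : Module (B ⧸ m) (U m) := Module.compHom _ toEndL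
  have hsmul : ∀ (b : B) (u : U m), ((Ideal.Quotient.mk m b • u : U m) : V) = (b : Module.End k V) u :=
    fun b u => rfl
  haveI : IsScalarTower k (B ⧸ m) (U m) := IsScalarTower.of_algebraMap_smul (R := k) (A := (B ⧸ m)) (M := U m) fun t u => Subtype.ext (by
    have e : algebraMap k (B ⧸ m) t = Ideal.Quotient.mk m (algebraMap k B t) := rfl
    rw [e, hsmul]
    simp)
  haveI : Module.Finite (B ⧸ m) (U m) := Module.Finite.of_restrictScalars_finite k (B ⧸ m) (U m)
  let r : H₀ →* Module.End k (U m) :=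
    { toFun := fun x => (ρ ((x : H) : Γ)).restrict fun u hu => by
        have := hshift x 1 u (by rw [hm1]; exact hu)
        rwa [mul_one, hmfix] at this
      map_one' := LinearMap.ext fun u => Subtype.ext (by simp)
      map_mul' := fun x y => LinearMap.ext fun u => Subtype.ext (by simp) }
  haveI : FaithfulSMul H₀ (B ⧸ m) := by
    constructor
    intro x y hxy
    by_contra hne
    set z := ((y⁻¹ * x : H₀) : H)
    have hz1 : (z : Γ) ≠ 1 := fun e => hne (inv_mul_eq_one.1 (Subtype.ext (Subtype.ext e))).symm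
    have hzfix : ∀ l : (B ⧸ m), (y⁻¹ * x) • l = l := fun l => by
      rw [mul_smul, hxy, inv_smul_smul]
    have hinj : ∀ f ∈ Z, ∀ f' ∈ Z,
        f⁻¹ * ((z : Γ) * f * (z : Γ)⁻¹) = f'⁻¹ * ((z : Γ) * f' * (z : Γ)⁻¹) → f = f' := by
      intro f hf f' hf' e
      have h1 : (f' * f⁻¹) * (z : Γ) = (z : Γ) * (f' * f⁻¹) := by
        calc (f' * f⁻¹) * (z : Γ) = f' * (f⁻¹ * ((z : Γ) * f * (z : Γ)⁻¹)) * ((z : Γ) * f⁻¹ * (z : Γ)⁻¹) * z := by group
          _ = f' * (f'⁻¹ * ((z : Γ) * f' * (z : Γ)⁻¹)) * ((z : Γ) * f⁻¹ * (z : Γ)⁻¹) * z := by rw [e]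
          _ = _ := by group
      exact (mul_inv_eq_one.1 (hfpf _ z.2 hz1 _ (mul_mem hf'.1 (inv_mem hf.1)) h1.symm)).symm
    have hZmul : ∀ a ∈ Z, ∀ b ∈ Z, a * b ∈ Z := fun a ha b hb => ⟨mul_mem ha.1 hb.1, fun g hg => by
      rw [map_mul, mul_assoc, hb.2 g hg, ← mul_assoc, ha.2 g hg, mul_assoc]⟩
    have hZinv : ∀ a ∈ Z, a⁻¹ ∈ Z := fun a ha => ⟨inv_mem ha.1, fun g hg => by
      have h1 := congrArg (fun w => ρ a⁻¹ * w * ρ a⁻¹) (ha.2 g hg)
      simp only [← map_mul] at h1 ⊢
      convert h1.symm using 2 <;> group⟩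
    let θ : Z → Z := fun f => ⟨(f : Γ)⁻¹ * ((z : Γ) * f * (z : Γ)⁻¹),
      hZmul _ (hZinv _ f.2) _ (hZconj _ z.2 _ f.2)⟩
    have hθ : Function.Surjective θ := Finite.injective_iff_surjective.1 fun f f' e =>
      Subtype.ext (hinj f f.2 f' f'.2 (congrArg Subtype.val e))
    have hv0U : v₀ ∈ U m := fun b hb => hb
    refine hv₀ (hCZ v₀ fun f hf => ?_)
    obtain ⟨⟨g, hg⟩, hgf⟩ := hθ ⟨f, hf⟩
    have h1 : Ideal.Quotient.mk m (σ z ⟨ρ g, hZB g hg⟩) = Ideal.Quotient.mk m ⟨ρ g, hZB g hg⟩ :=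
      hzfix (Ideal.Quotient.mk m ⟨ρ g, hZB g hg⟩)
    have h2 : (ρ (z : Γ) * ρ g * ρ (z : Γ)⁻¹) v₀ = ρ g v₀ := by
      have h3 := Ideal.Quotient.eq.1 h1
      change ((σ z ⟨ρ g, hZB g hg⟩ - ⟨ρ g, hZB g hg⟩ : B) : Module.End k V) v₀ = 0 at h3
      rwa [AddSubgroupClass.coe_sub, LinearMap.sub_apply, sub_eq_zero] at h3
    have e : f = g⁻¹ * ((z : Γ) * g * (z : Γ)⁻¹) := (congrArg Subtype.val hgf).symm
    rw [e, map_mul, Module.End.mul_apply, map_mul, map_mul, h2, inv_apply']
  obtain ⟨W, huW, heW⟩ := semilinear (L := B ⧸ m) r (by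
    intro x l u
    obtain ⟨b, rfl⟩ := Ideal.Quotient.mk_surjective l
    refine Subtype.ext ?_
    rw [hact, hsmul]
    show ρ ((x : H) : Γ) ((Ideal.Quotient.mk m b • u : U m) : V) = _
    rw [hsmul]
    exact hσcomm x b u)
  refine ⟨W.map (U m).subtype, fun c hc h0 => ?_, ?_⟩
  · choose c' hc' hcc using hc
    have hcc' : ∀ h, ((c' h : U m) : V) = c h := hcc
    let ids : Finset (Ideal B) := Finset.univ.image mh
    have hu : ∀ h : H, ρ h (c h) ∈ U (mh h) := fun h => by
      have := hshift h 1 (c h) (by rw [hm1, ← hcc']; exact (c' h).2)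
      rwa [mul_one] at this
    have hz := hindep ids (fun n hn => by
        obtain ⟨h, -, rfl⟩ := Finset.mem_image.1 hn; exact hmax h)
      (fun n => ∑ h ∈ Finset.univ.filter (fun h => mh h = n), ρ h (c h))
      (fun n _ => Submodule.sum_mem _ fun h hh => (Finset.mem_filter.1 hh).2 ▸ hu h)
      (by rw [← h0]; exact Finset.sum_fiberwise_of_maps_to (fun h _ => Finset.mem_image_of_mem _ (Finset.mem_univ h)) _)
    funext g
    have h1 := congrArg (ρ (g : Γ)⁻¹) (hz (mh g) (Finset.mem_image_of_mem _ (Finset.mem_univ g)))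
    rw [map_sum, map_zero] at h1
    have h2 : ∑ x : H₀, r x (c' (g * x)) = 0 := by
      refine Subtype.ext ?_
      rw [Submodule.coe_sum, ZeroMemClass.coe_zero, ← h1]
      refine Finset.sum_bij (fun x _ => g * (x : H)) (fun x _ => ?_) (fun a _ b _ e => ?_) (fun h hh => ?_)
        (fun x _ => ?_)
      · refine Finset.mem_filter.2 ⟨Finset.mem_univ _, ((hfib g (g * x)).2 ?_).symm⟩
        rw [inv_mul_cancel_left]; exact x.2
      · exact Subtype.ext (mul_left_cancel e)
      · exact ⟨⟨g⁻¹ * h, (hfib g h).1 (Finset.mem_filter.1 hh).2.symm⟩, Finset.mem_univ _, mul_inv_cancel_left g h⟩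
      · show ρ ((x : H) : Γ) (c' (g * x) : V) = _
        rw [hcc', ← Module.End.mul_apply (ρ (g : Γ)⁻¹), ← map_mul, Subgroup.coe_mul, inv_mul_cancel_left]
    have h3 := congrFun (huW (fun x : H₀ => c' (g * x)) (fun x => hc' _) h2) 1
    rw [← hcc' g]
    simpa using congrArg Subtype.val h3
  · let R : Submodule k V :=
      { carrier := {v | ∃ c : H → V, (∀ h, c h ∈ W.map (U m).subtype) ∧ ∑ h : H, ρ h (c h) = v}
        zero_mem' := ⟨0, fun _ => zero_mem _, by simp⟩
        add_mem' := by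
          rintro _ _ ⟨c, hc, rfl⟩ ⟨d, hd, rfl⟩
          exact ⟨c + d, fun h => add_mem (hc h) (hd h), by simp [Finset.sum_add_distrib]⟩
        smul_mem' := by
          rintro t _ ⟨c, hc, rfl⟩
          exact ⟨t • c, fun h => Submodule.smul_mem _ t (hc h), by simp [Finset.smul_sum]⟩ }
    have hUR : ∀ g : H, ∀ u ∈ U m, ρ g u ∈ R := by
      intro g u hu
      obtain ⟨d, hd, hdu⟩ := heW ⟨u, hu⟩
      refine ⟨fun h => if hh : g⁻¹ * h ∈ H₀ then (d ⟨_, hh⟩ : V) else 0, fun h => ?_, ?_⟩
      · dsimp only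
        split_ifs with hh
        · exact ⟨d ⟨_, hh⟩, hd _, rfl⟩
        · exact zero_mem _
      · have h4 := congrArg Subtype.val hdu
        rw [Submodule.coe_sum] at h4
        change ∑ h : H, _ = ρ g u
        change _ = u at h4
        conv_rhs => rw [← h4, map_sum]
        symm
        refine Finset.sum_bij_ne_zero (fun x _ _ => g * (x : H)) (fun _ _ _ => Finset.mem_univ _)
          (fun a _ _ b _ _ e => Subtype.ext (mul_left_cancel e)) (fun h _ hne => ?_) (fun x _ _ => ?_)
        · dsimp only at hne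
          by_cases hh : g⁻¹ * h ∈ H₀
          · rw [dif_pos hh] at hne
            refine ⟨⟨_, hh⟩, Finset.mem_univ _, ?_, mul_inv_cancel_left g h⟩
            show ρ g (ρ ((g⁻¹ * h : H) : Γ) (d ⟨_, hh⟩ : V)) ≠ 0
            rwa [← Module.End.mul_apply, ← map_mul, ← Subgroup.coe_mul, mul_inv_cancel_left]
          · rw [dif_neg hh, map_zero] at hne; exact absurd rfl hne
        · have hh : g⁻¹ * (g * (x : H)) ∈ H₀ := by rw [inv_mul_cancel_left]; exact x.2
          dsimp only
          rw [dif_pos hh]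
          have e : (⟨_, hh⟩ : H₀) = x := Subtype.ext (inv_mul_cancel_left g _)
          show ρ g (ρ ((x : H) : Γ) (d x : V)) = _
          rw [e, ← Module.End.mul_apply, ← map_mul, ← Subgroup.coe_mul]
    set S : Submodule k V := ⨆ g : H, (U m).map (ρ g) with hS
    have hSR : S ≤ R := iSup_le fun g => by rintro _ ⟨u, hu, rfl⟩; exact hUR g u hu
    have hStop : S = ⊤ := by
      refine (hirr S ?_ ?_).resolve_left ?_
      · intro f hf v hv
        refine (show S ≤ S.comap (ρ f) from iSup_le fun g => ?_) hv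
        rintro _ ⟨u, hu, rfl⟩
        refine Submodule.mem_iSup_of_mem g ⟨ρ ((g : Γ)⁻¹ * f * g) u, ?_, ?_⟩
        · intro b hb
          rw [← Module.End.mul_apply, hcommN b _ (by simpa using hnorm (g : Γ)⁻¹ (inv_mem g.2) f hf),
            Module.End.mul_apply, hu b hb, map_zero]
        · rw [← Module.End.mul_apply, ← Module.End.mul_apply, ← map_mul, ← map_mul]
          congr 2
          group
      · intro h hh v hv
        refine (show S ≤ S.comap (ρ h) from iSup_le fun g => ?_) hv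
        rintro _ ⟨u, hu, rfl⟩
        refine Submodule.mem_iSup_of_mem (⟨h, hh⟩ * g) ⟨u, hu, ?_⟩
        rw [← Module.End.mul_apply, ← map_mul]; rfl
      · intro e
        have : v₀ ∈ S := Submodule.mem_iSup_of_mem 1 ⟨v₀, fun b hb => hb, by simp⟩
        rw [e, Submodule.mem_bot] at this
        exact hv₀ this
    exact fun v => hSR (hStop ▸ Submodule.mem_top)

end Cfsg.Agent.SolvStruct.FrobeniusFree
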