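import Cfsg.Prelude.Def_Solvable
import Cfsg.Agent.Lib.PLocal.Cores
import Cfsg.Agent.OddLocal.CN
import Cfsg.Agent.SolvStruct.FrobeniusFree.Core

/-!
# Freeness over a Frobenius complement
-/

set_option autoImplicit false

namespace Cfsg.Agent.SolvStruct.FrobeniusFree

open Module
open scoped Pointwise

variable {k : Type*} [Field k]

theorem free_of_fpf {Γ : Type*} [Group Γ] [Finite Γ] (N H : Subgroup Γ) [Fintype H] [Group.IsNilpotent N]
    (hHN : H ≤ Subgroup.normalizer (N : Set Γ)) (htop : N ⊔ H = ⊤)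
    (hfpf : ∀ h ∈ H, h ≠ 1 → ∀ f ∈ N, h * f = f * h → f = 1) (hN : (Nat.card N : k) ≠ 0) :
    ∀ (n : ℕ) (V : Type*) [AddCommGroup V] [Module k V] [FiniteDimensional k V]
      (ρ : Γ →* Module.End k V), finrank k V ≤ n → (∀ v, (∀ f ∈ N, ρ f v = v) → v = 0) → Free ρ H := by
  classical
  haveI : Fintype N := Fintype.ofFinite _
  intro n
  induction n with
  | zero =>
    intro V _ _ _ ρ hn hC
    haveI : Subsingleton V := (Module.finrank_zero_iff (R := k)).1 (Nat.le_zero.1 hn)
    exact ⟨⊥, fun c hc _ => funext fun h => Subsingleton.elim _ _,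
      fun v => ⟨0, fun _ => zero_mem _, Subsingleton.elim _ _⟩⟩
  | succ n ih =>
    intro V _ _ _ ρ hn hC
    rcases subsingleton_or_nontrivial V with hV | hV
    · exact ih V ρ (by rw [Module.finrank_zero_of_subsingleton]; omega) hC
    by_cases hirr : ∀ S : Submodule k V, (∀ f ∈ N, ∀ v ∈ S, ρ f v ∈ S) → (∀ h ∈ H, ∀ v ∈ S, ρ h v ∈ S) →
        S = ⊥ ∨ S = ⊤
    · exact free_irreducible ρ N H hHN hfpf hC hirr
    push Not at hirr
    obtain ⟨S, hSN, hSH, hSb, hSt⟩ := hirr
    have hSinv : ∀ g : Γ, ∀ v ∈ S, ρ g v ∈ S := by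
      intro g
      have hg : g ∈ N ⊔ H := htop ▸ Subgroup.mem_top g
      rw [← Subgroup.mem_toSubmonoid, Subgroup.sup_eq_closure, Subgroup.closure_toSubmonoid_of_finite] at hg
      induction hg using Submonoid.closure_induction with
      | mem x hx => rcases hx with hx | hx; exacts [hSN x hx, hSH x hx]
      | one => intro v hv; simpa using hv
      | mul x y _ _ hx hy => intro v hv; rw [map_mul, Module.End.mul_apply]; exact hx _ (hy v hv)
    let ρS : Γ →* Module.End k S :=
      { toFun := fun g => (ρ g).restrict (hSinv g)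
        map_one' := LinearMap.ext fun s => Subtype.ext (by simp)
        map_mul' := fun x y => LinearMap.ext fun s => Subtype.ext (by simp) }
    let ρQ : Γ →* Module.End k (V ⧸ S) :=
      { toFun := fun g => S.mapQ S (ρ g) (hSinv g)
        map_one' := Submodule.linearMap_qext _ (LinearMap.ext fun v => by simp)
        map_mul' := fun x y => Submodule.linearMap_qext _ (LinearMap.ext fun v => by simp) }
    have hQ : ∀ (g : Γ) (v : V), ρQ g (S.mkQ v) = S.mkQ (ρ g v) := fun g v => rfl
    refine free_extension ρS ρQ (fun h s => rfl) (fun h v => rfl) (ih S ρS ?_ ?_) (ih (V ⧸ S) ρQ ?_ ?_)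
    · have := Submodule.finrank_lt hSt
      omega
    · intro s hs
      exact Subtype.ext (hC s fun f hf => congrArg Subtype.val (hs f hf))
    · have h1 := Submodule.finrank_quotient_add_finrank S
      have h2 : 0 < finrank k S := Nat.pos_of_ne_zero fun e => hSb (Submodule.finrank_eq_zero.1 e)
      omega
    · intro q hq
      obtain ⟨v, rfl⟩ := S.mkQ_surjective q
      set w := (Nat.card N : k)⁻¹ • ∑ f : N, ρ f v with hw
      have hw0 : w = 0 := hC w fun g hg => by
        rw [hw, map_smul, map_sum]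
        congr 1
        refine Fintype.sum_equiv (Equiv.mulLeft ⟨g, hg⟩) _ _ fun f => ?_
        rw [Equiv.coe_mulLeft, Subgroup.coe_mul, map_mul, Module.End.mul_apply]
      have h1 := congrArg S.mkQ hw0
      rw [hw, map_smul, map_sum, map_zero] at h1
      rw [← h1, Finset.sum_congr rfl (fun (f : N) _ => show S.mkQ (ρ f v) = S.mkQ v by rw [← hQ, hq f f.2]),
        Finset.sum_const, Finset.card_univ, ← Nat.card_eq_fintype_card, ← Nat.cast_smul_eq_nsmul k,
        smul_smul, inv_mul_cancel₀ hN, one_smul]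

/-- A `p`-group in characteristic `p` fixes a nonzero vector of every invariant nonzero space. -/
theorem exists_fixed_vector {p : ℕ} [hp : Fact p.Prime] [CharP k p] {P : Type*} [Group P] [Finite P]
    (hP : IsPGroup p P) {V : Type*} [AddCommGroup V] [Module k V] (ρ : P →* Module.End k V)
    (U : Submodule k V) (hU : ∀ (f : P), ∀ v ∈ U, ρ f v ∈ U) {u : V} (hu : u ∈ U) (hu0 : u ≠ 0) :
    ∃ v ∈ U, v ≠ 0 ∧ ∀ f : P, ρ f v = v := by
  classical
  haveI : Fintype P := Fintype.ofFinite _
  let ι := ZMod.castHom (dvd_refl p) k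
  let T : (P → ZMod p) →+ V :=
    { toFun := fun c => ∑ f : P, ι (c f) • ρ f u
      map_zero' := by simp
      map_add' := fun a b => by simp [add_smul, Finset.sum_add_distrib] }
  have hTU : ∀ v ∈ T.range, v ∈ U := by
    rintro _ ⟨c, rfl⟩; exact U.sum_mem fun f _ => U.smul_mem _ (hU f u hu)
  have huT : u ∈ T.range := ⟨fun f => if f = 1 then 1 else 0, by
    show ∑ f : P, ι (if f = 1 then 1 else 0) • ρ f u = u
    rw [Finset.sum_eq_single 1 (fun f _ hf => by rw [if_neg hf, map_zero, zero_smul])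
      (fun h => absurd (Finset.mem_univ _) h)]
    simp⟩
  have hinv : ∀ g : P, ∀ v ∈ T.range, ρ g v ∈ T.range := by
    rintro g _ ⟨c, rfl⟩
    refine ⟨fun f => c (g⁻¹ * f), ?_⟩
    show ∑ f : P, ι (c (g⁻¹ * f)) • ρ f u = ρ g (∑ f : P, ι (c f) • ρ f u)
    rw [map_sum]
    refine (Fintype.sum_equiv (Equiv.mulLeft g) _ _ fun f => ?_).symm
    rw [Equiv.coe_mulLeft, inv_mul_cancel_left, map_smul, map_mul, Module.End.mul_apply]
  letI : MulAction P T.range :=
    { smul := fun g v => ⟨ρ g v, hinv g v v.2⟩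
      one_smul := fun v => Subtype.ext (by show ρ 1 (v : V) = v; simp)
      mul_smul := fun a b v => Subtype.ext (by show ρ (a * b) (v : V) = ρ a (ρ b v); simp) }
  haveI : Finite T.range := Finite.of_surjective _ T.rangeRestrict_surjective
  have hcard : p ∣ Nat.card T.range := by
    have h1 : Nat.card T.range ∣ Nat.card (P → ZMod p) :=
      AddSubgroup.card_dvd_of_surjective T.rangeRestrict T.rangeRestrict_surjective
    rw [Nat.card_fun, Nat.card_zmod] at h1
    obtain ⟨j, -, hj⟩ := (Nat.dvd_prime_pow hp.out).1 h1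
    have h2 : Nontrivial T.range := ⟨⟨⟨u, huT⟩, 0, fun e => hu0 (congrArg Subtype.val e)⟩⟩
    have h3 : 1 < Nat.card T.range := Finite.one_lt_card
    rw [hj] at h3 ⊢
    exact dvd_pow_self p fun e => by simp [e] at h3
  have hmod := hP.card_modEq_card_fixedPoints T.range
  have h0 : (0 : T.range) ∈ MulAction.fixedPoints P T.range := fun g => Subtype.ext (map_zero _)
  obtain ⟨v, hv, hv0⟩ := hP.exists_fixed_point_of_prime_dvd_card_of_fixed_point T.range hcard h0
  exact ⟨v, hTU v v.2, fun e => hv0 (Subtype.ext e.symm), fun f => congrArg Subtype.val (hv f)⟩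

theorem main {V A : Type*} [AddCommGroup V] [Module k V] [FiniteDimensional k V] [Group A] [Finite A]
    [DecidableEq A] (ρ : Representation k A V) (Fk Hc : Subgroup A) [Fk.Normal]
    (hHc : Cfsg.IsFrobeniusComplement Hc) (hker : Cfsg.frobeniusKernel Hc = (Fk : Set A))
    (hnil : Group.IsNilpotent Fk) (hCF : ∀ v : V, (∀ f ∈ Fk, ρ f v = v) → v = 0) :
    ∃ W : Submodule k V, DirectSum.IsInternal (fun h : Hc => W.map (ρ (h : A))) := by
  classical
  haveI : Fintype Hc := Fintype.ofFinite _
  have hfpf : ∀ h ∈ Hc, h ≠ 1 → ∀ f ∈ Fk, h * f = f * h → f = 1 := by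
    intro h hh hh1 f hf hhf
    have hmem : f ∈ Cfsg.frobeniusKernel Hc := hker ▸ hf
    rcases hmem with e | e
    · exact e
    exfalso
    have hfH : f ∈ Hc := by
      by_contra hf'
      have h2 := hHc.2.2 f hf'
      refine hh1 (Subgroup.mem_bot.1 (h2 ▸ Subgroup.mem_inf.2 ⟨hh, ?_⟩))
      rw [Subgroup.mem_pointwise_smul_iff_inv_smul_mem, ← map_inv, MulAut.smul_def, MulAut.conj_apply,
        inv_inv, mul_assoc, hhf, inv_mul_cancel_left]
      exact hh
    exact e 1 (by rwa [map_one, one_smul])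
  -- a normal subgroup of `Fk` of order invertible in `k`
  obtain ⟨N, hNF, hNn, hN, hCN⟩ : ∃ N : Subgroup A, N ≤ Fk ∧ N.Normal ∧ (Nat.card N : k) ≠ 0 ∧
      ∀ v : V, (∀ f ∈ N, ρ f v = v) → v = 0 := by
    by_cases hchar : (Nat.card Fk : k) ≠ 0
    · exact ⟨Fk, le_rfl, inferInstance, hchar, hCF⟩
    push Not at hchar
    obtain ⟨p, hpc⟩ := CharP.exists k
    have hpp : p.Prime := by
      rcases CharP.char_is_prime_or_zero k p with h | h
      · exact h
      · subst h
        haveI := CharP.charP_to_charZero k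
        exact absurd (Nat.cast_eq_zero.1 hchar) Nat.card_pos.ne'
    haveI := Fact.mk hpp
    set N₀ := Cfsg.pPrimeCore p Fk with hN₀
    haveI : N₀.Characteristic := PLocal.Cores.pPrimeCore_characteristic
    have hNn : (N₀.map Fk.subtype).Normal := ConjAct.normal_of_characteristic_of_normal
    refine ⟨N₀.map Fk.subtype, Subgroup.map_subtype_le _, hNn, ?_, ?_⟩
    · rw [Subgroup.card_map_of_injective Fk.subtype_injective, Ne, CharP.cast_eq_zero_iff k p]
      exact PLocal.Cores.not_dvd_card_pPrimeCore hpp.ne_one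
    intro v hv
    by_contra hv0
    obtain ⟨P⟩ := (inferInstance : Nonempty (Sylow p Fk))
    haveI : (P : Subgroup Fk).Normal := inferInstance
    obtain ⟨K, hK⟩ := Subgroup.exists_right_complement'_of_coprime (N := (P : Subgroup Fk)) P.card_coprime_index
    have hKcop : (Nat.card K).Coprime p := by
      rw [← hK.symm.index_eq_card]
      exact ((Nat.Prime.coprime_iff_not_dvd hpp).2 P.not_dvd_index).symm
    have hcomm : ∀ a ∈ (P : Subgroup Fk), ∀ b ∈ K, Commute a b := by
      intro a ha b hb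
      refine OddLocal.CN.commute_of_coprime (G := Fk) ?_
      obtain ⟨j, hj⟩ := IsPGroup.iff_orderOf.1 P.2 ⟨a, ha⟩
      rw [Subgroup.orderOf_mk] at hj
      rw [hj]
      refine Nat.Coprime.pow_left j (hKcop.symm.coprime_dvd_right ?_)
      exact Subgroup.orderOf_mk b hb ▸ orderOf_dvd_natCard (⟨b, hb⟩ : K)
    haveI hKn : K.Normal := by
      refine Subgroup.normalizer_eq_top_iff.1 (top_le_iff.1 (hK.sup_eq_top.ge.trans (sup_le ?_ Subgroup.le_normalizer)))
      exact fun a ha => Subgroup.centralizer_le_normalizer _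
        (Subgroup.mem_centralizer_iff.2 fun b hb => (hcomm a ha b hb).eq.symm)
    have hKN : K ≤ N₀ := PLocal.Cores.le_pPrimeCore hKcop
    let U : Submodule k V :=
      { carrier := {v | ∀ f ∈ N₀.map Fk.subtype, ρ f v = v}
        zero_mem' := fun f _ => map_zero _
        add_mem' := fun {a b} ha hb f hf => by rw [map_add, ha f hf, hb f hf]
        smul_mem' := fun t a ha f hf => by rw [map_smul, ha f hf] }
    obtain ⟨w, hwU, hw0, hwfix⟩ := exists_fixed_vector P.2 (ρ.comp (Fk.subtype.comp (P : Subgroup Fk).subtype)) U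
      (fun g u hu f hf => by
        show ρ f (ρ ((g : Fk) : A) u) = ρ ((g : Fk) : A) u
        have h1 := hu _ (hNn.conj_mem f hf ((g : Fk) : A)⁻¹)
        rw [inv_inv, map_mul, map_mul, Module.End.mul_apply, Module.End.mul_apply] at h1
        have h2 := congrArg (ρ ((g : Fk) : A)) h1
        rwa [apply_inv] at h2) hv hv0
    refine hw0 (hCF w fun f hf => ?_)
    obtain ⟨⟨⟨a, ha⟩, ⟨b, hb⟩⟩, hab⟩ := hK.2 ⟨f, hf⟩
    have e : f = (a : A) * (b : A) := (congrArg Subtype.val hab).symm
    rw [e, map_mul, Module.End.mul_apply, hwU (b : A) ⟨b, hKN hb, rfl⟩]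
    exact hwfix ⟨a, ha⟩
  -- restrict to `N Hc`
  set Γ := N ⊔ Hc with hΓ
  haveI : Group.IsNilpotent N := by
    haveI := hnil
    exact Group.nilpotent_of_surjective (Subgroup.subgroupOfEquivOfLe hNF).toMonoidHom
      (Subgroup.subgroupOfEquivOfLe hNF).surjective
  haveI : Group.IsNilpotent (N.subgroupOf Γ) :=
    Group.nilpotent_of_surjective (Subgroup.subgroupOfEquivOfLe (le_sup_left : N ≤ Γ)).symm.toMonoidHom
      (Subgroup.subgroupOfEquivOfLe (le_sup_left : N ≤ Γ)).symm.surjective
  haveI : Fintype (Hc.subgroupOf Γ) := Fintype.ofFinite _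
  haveI := hNn
  obtain ⟨W, huW, heW⟩ := free_of_fpf (k := k) (N.subgroupOf Γ) (Hc.subgroupOf Γ)
    (by rw [Subgroup.normalizer_eq_top_iff.2 (inferInstance : (N.subgroupOf Γ).Normal)]; exact le_top)
    (by rw [← Subgroup.subgroupOf_sup le_sup_left le_sup_right, Subgroup.subgroupOf_self])
    (fun h hh hh1 f hf e => Subtype.ext (hfpf h hh (fun e' => hh1 (Subtype.ext e')) f (hNF hf)
      (congrArg Subtype.val e)))
    (by rwa [Nat.card_congr (Subgroup.subgroupOfEquivOfLe le_sup_left).toEquiv])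
    (finrank k V) V (ρ.comp Γ.subtype) le_rfl
    (fun v hv => hCN v fun f hf => hv ⟨f, le_sup_left (b := Hc) hf⟩ hf)
  let ε := (Subgroup.subgroupOfEquivOfLe (le_sup_right : Hc ≤ Γ)).toEquiv
  refine ⟨W, DirectSum.isInternal_submodule_of_iSupIndep_of_iSup_eq_top ?_ ?_⟩
  · rw [iSupIndep_iff_finsetSum_eq_zero_imp_eq_zero]
    intro s u hu h0 i hi
    have hpre : ∀ h : Hc, ∃ c ∈ W, ρ (h : A) c = if h ∈ s then u h else 0 := fun h => by
      split_ifs with hh
      · exact hu h hh
      · exact ⟨0, zero_mem _, map_zero _⟩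
    choose c hc hcu using hpre
    have := huW (fun g => c (ε g)) (fun g => hc _) (by
      refine (Fintype.sum_equiv ε _ (fun h : Hc => ρ (h : A) (c h)) (fun g => rfl)).trans ?_
      rw [Finset.sum_congr rfl fun h _ => hcu h, Finset.sum_ite_mem, Finset.univ_inter, h0])
    have h1 := congrFun this (ε.symm i)
    rw [Equiv.apply_symm_apply, Pi.zero_apply] at h1
    have h2 := hcu i
    rw [h1, map_zero, if_pos hi] at h2
    exact h2.symm
  · refine eq_top_iff.2 fun v _ => ?_
    obtain ⟨c, hc, rfl⟩ := heW v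
    exact Submodule.sum_mem _ fun g _ => Submodule.mem_iSup_of_mem (ε g) ⟨c g, hc g, rfl⟩

end Cfsg.Agent.SolvStruct.FrobeniusFree
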